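import Cfsg.Agent.H892.EP.TM_m3
import Cfsg.Agent.H968.PQ.ON
import Cfsg.Agent.H999.ONRat
import Cfsg.Agent.Prune
set_option linter.all false
prune_inst 0x7f00000000000000000000000000000000000000000000000000000000000000000000000000000000000000000000000000000000000000000000000000000000000000000000000000000000000000003fffffffffffffffffffffffffffbeffbdffffffff
open scoped Cfsg.Agent.FastGrp

/-!
# S4929: the row of the O'Nan group (helper434)

The degrees `26752 = 2^7 11 19`, `10944 = 2^6 3^2 19`, `175616 = 2^9 7^3` for the primes 3, 7, 31 / 11 / 19; `p = 5`: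
cyclic Sylow subgroups, real elements.
-/

set_option autoImplicit false

open Cfsg Subgroup Cfsg.Agent.Characters.Core

namespace Cfsg.Agent.H434.EP

open Cfsg.Agent.H892.EP Cfsg.Agent.H709.PB
open Cfsg.Spor (ON)

/-- a character of even degree not divisible by `p ^ a`, where all characters outside the principal block have degree
divisible by `p ^ a` -/
theorem evAt_of_nb {G : Type*} [Group G] {p a d : ℕ} (h : NB p a G) (hd : ∃ χ : IrrCharacter G, charDegree (χ : G → ℂ) = d)
    (h1 : ¬ p ^ a ∣ d) (h2 : 2 ∣ d) : EvAt p G := by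
  intro M hM
  obtain ⟨χ, rfl⟩ := hd
  refine ⟨χ, ?_, h2⟩
  by_contra h3
  exact h1 (h M hM χ h3)

theorem ev_on : Ev ON := by
  intro p hp hp2 hd
  have := Cfsg.Agent.KFacts.ON.Cent.finite_ON
  have hpF : Fact p.Prime := ⟨hp⟩
  have dA := H968.PQ.ON.deg H492.FactsON.exists_10944
  have dB := H968.PQ.ON.deg H492.FactsON.exists_26752
  have dD := H210.On7.exists_charDegree
  have hcard := Cfsg.Agent.KFacts.ON.OneClass.card_ON
  rw [hcard] at hd
  rcases H680.PBON.cases hp hd with rfl | rfl | rfl | rfl | rfl | rfl | rfl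
  · exact absurd rfl hp2
  · exact evAt_of_nb H968.PQ.ON.nb_three dB (by norm_num) (by norm_num)
  · obtain ⟨z, hz⟩ := exists_prime_orderOf_dvd_card' (G := ON) 5 (by rw [hcard]; norm_num)
    refine evAt_of_real_cyclic (by norm_num) (fun P => ?_) hz (Cfsg.Agent.H999.ONRat.real_five hz)
    obtain ⟨k, hk⟩ := P.isPGroup'.exists_card_eq
    have h1 : 5 ^ k ∣ 460815505920 := by
      rw [← hk, ← hcard]
      exact Subgroup.card_subgroup_dvd_card _
    have h2 : k < 2 := by
      by_contra hk2
      exact absurd ((pow_dvd_pow 5 (not_lt.1 hk2)).trans h1) (by norm_num)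
    interval_cases k
    · have := (Nat.card_eq_one_iff_unique.1 hk).1
      exact isCyclic_of_subsingleton
    · exact isCyclic_of_prime_card (by rw [hk, pow_one])
  · exact evAt_of_nb H968.PQ.ON.nb_seven dB (by norm_num) (by norm_num)
  · exact evAt_of_nb H968.PQ.ON.nb_11 dA (by norm_num) (by norm_num)
  · exact evAt_of_nb H968.PQ.ON.nb_19 dD (by norm_num) (by norm_num)
  · exact evAt_of_nb H968.PQ.ON.nb_31 dB (by norm_num) (by norm_num)

/-- **The row of the O'Nan group.** -/
theorem row_on : SpRow fun K => Spor.IsoON K := by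
  intro K _ _ _ h
  obtain ⟨e⟩ := h
  have := Cfsg.Agent.KFacts.ON.Cent.finite_ON
  exact ev_on.tr e.symm

end Cfsg.Agent.H434.EP
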